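import Groth.Prelude.Def_Magnet3
import Groth.Agent.Lib.MagnetSep25.Basic
import Mathlib.RingTheory.Bialgebra.MonoidAlgebra

/-! # Points of diagonalizable monoid schemes on affine schemes are characters -/

set_option autoImplicit false
set_option backward.isDefEq.respectTransparency false
set_option backward.isDefEq.respectTransparency.types false

universe u

open CategoryTheory MonoidalCategory CartesianMonoidalCategory MonObj AlgebraicGeometry
open scoped TensorProduct

noncomputable section

namespace GrothLib.MagnetPts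

open Magnet

attribute [local instance 2000] Algebra.toModule

variable (M : Type) [AddCommMonoid M] (C : Type u) [CommRing C]

/-- The unique ring map from `ULift ℤ`. -/
local instance (priority := 50) algZ (C : Type u) [CommRing C] : Algebra (ULift.{u} ℤ) C :=
  ((Int.castRingHom C).comp (ULift.ringEquiv (R := ℤ)).toRingHom).toAlgebra

theorem uz_hom_ext {A : Type u} [CommRing A] (φ ψ : ULift.{u} ℤ →+* A) : φ = ψ := by
  refine RingHom.ext fun r => ?_
  obtain ⟨n⟩ := r
  exact RingHom.congr_fun ((φ.comp (ULift.ringEquiv (R := ℤ)).symm.toRingHom).ext_int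
    (ψ.comp (ULift.ringEquiv (R := ℤ)).symm.toRingHom)) n

/-- Points of a monoid algebra are characters. -/
def convEquiv :
    WithConv (MonoidAlgebra (ULift.{u} ℤ) (Multiplicative M) →ₐ[ULift.{u} ℤ] C) ≃* (Multiplicative M →* C) where
  toFun f := (MonoidAlgebra.lift (ULift.{u} ℤ) C (Multiplicative M)).symm f.ofConv
  invFun χ := WithConv.toConv (MonoidAlgebra.lift (ULift.{u} ℤ) C (Multiplicative M) χ)
  left_inv f := by
    apply WithConv.ofConv_injective
    simp
  right_inv χ := by simp
  map_mul' f g := by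
    refine MonoidHom.ext fun m => ?_
    change (f * g).ofConv (MonoidAlgebra.single m 1) = f.ofConv (MonoidAlgebra.single m 1) * g.ofConv (MonoidAlgebra.single m 1)
    refine (AlgHom.convMul_apply f g _).trans ?_
    simp

/-- The point over `Spec ℤ` attached to a character. -/
def specPoint :
    (Multiplicative M →* C) ≃*
      ((Spec (CommRingCat.of C)).asOver (Spec (CommRingCat.of (ULift.{u} ℤ))) ⟶ AMon (ULift.{u} ℤ) M) :=
  (convEquiv M C).symm.trans Spec.mapMulEquiv

variable {S : Scheme.{u}} {C}

/-- `Spec C` over `S`, seen over `Spec ℤ`. -/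
def baseIso (p : Spec (CommRingCat.of C) ⟶ S) :
    (Over.map (Limits.IsTerminal.from specULiftZIsTerminal S)).obj (Over.mk p) ≅
      (Spec (CommRingCat.of C)).asOver (Spec (CommRingCat.of (ULift.{u} ℤ))) :=
  Over.isoMk (Iso.refl _) (specULiftZIsTerminal.hom_ext _ _)

/-- Points over `S'` of a base changed monoid, as a monoid isomorphism. -/
def bcMulEquiv {S S' : Scheme.{u}} (f : S' ⟶ S) (G : Over S) [MonObj G] (T : Over S') :
    ((Over.map f).obj T ⟶ G) ≃* (T ⟶ Red.bc f G) where
  toEquiv := (Over.mapPullbackAdj f).homEquiv T G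
  map_mul' a b := by
    change (Over.mapPullbackAdj f).homEquiv T G (a * b) = _ * _
    simp only [Adjunction.homEquiv_unit, Functor.map_mul, MonObj.comp_mul]
    rfl

/-- Points of `A(M)_S` on an affine scheme over `S` are characters. -/
def amsPoint (p : Spec (CommRingCat.of C) ⟶ S) :
    (Multiplicative M →* C) ≃* (Over.mk p ⟶ AMonS S M) :=
  ((specPoint M C).trans
    { toFun := fun g => (baseIso p).hom ≫ g
      invFun := fun g => (baseIso p).inv ≫ g
      left_inv := fun g => by simp
      right_inv := fun g => by simp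
      map_mul' := fun a b => MonObj.comp_mul _ _ _ }).trans
    (bcMulEquiv (Limits.IsTerminal.from specULiftZIsTerminal S) (AMon (ULift.{u} ℤ) M) (Over.mk p))

variable {M}

/-- The projection of a point of `A(M)_S` to `A(M)_ℤ`. -/
theorem amsPoint_fst (p : Spec (CommRingCat.of C) ⟶ S) (χ : Multiplicative M →* C) :
    (amsPoint M p χ).left ≫ Limits.pullback.fst _ _ =
      Spec.map (CommRingCat.ofHom (MonoidAlgebra.lift (ULift.{u} ℤ) C (Multiplicative M) χ).toRingHom) := by
  change ((Over.mapPullbackAdj (Limits.IsTerminal.from specULiftZIsTerminal S)).homEquiv _ _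
    ((baseIso p).hom ≫ specPoint M C χ)).left ≫ _ = _
  simp [Adjunction.homEquiv_unit]
  erw [Category.id_comp, Category.id_comp]
  rfl

theorem hom_ext_fst {T : Over S} (u v : T ⟶ AMonS S M)
    (h : u.left ≫ Limits.pullback.fst _ _ = v.left ≫ Limits.pullback.fst _ _) : u = v := by
  apply Over.OverMorphism.ext
  refine Limits.pullback.hom_ext h ?_
  exact (Over.w u).trans (Over.w v).symm

/-- Naturality of `amsPoint` in the affine scheme. -/
theorem amsPoint_comp {C' : Type u} [CommRing C'] (p : Spec (CommRingCat.of C) ⟶ S)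
    (p' : Spec (CommRingCat.of C') ⟶ S) (h : C →+* C') (χ : Multiplicative M →* C)
    (hp : Spec.map (CommRingCat.ofHom h) ≫ p = p') :
    (Over.homMk (Spec.map (CommRingCat.ofHom h)) hp : Over.mk p' ⟶ Over.mk p) ≫ amsPoint M p χ =
      amsPoint M p' ((h : C →* C').comp χ) := by
  apply hom_ext_fst
  rw [Over.comp_left, Category.assoc, amsPoint_fst, amsPoint_fst]
  change Spec.map _ ≫ _ = _
  erw [← Spec.map_comp]
  rw [← CommRingCat.ofHom_comp]
  congr 2
  refine MonoidAlgebra.ringHom_ext (fun r => ?_) fun m => ?_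
  · exact RingHom.congr_fun (uz_hom_ext
      ((h.comp (MonoidAlgebra.lift (ULift.{u} ℤ) C (Multiplicative M) χ).toRingHom).comp
        (MonoidAlgebra.singleOneRingHom (R := ULift.{u} ℤ) (M := Multiplicative M)))
      ((MonoidAlgebra.lift (ULift.{u} ℤ) C' (Multiplicative M) ((h : C →* C').comp χ)).toRingHom.comp
        (MonoidAlgebra.singleOneRingHom (R := ULift.{u} ℤ) (M := Multiplicative M)))) r
  · change h (MonoidAlgebra.lift (ULift.{u} ℤ) C (Multiplicative M) χ (MonoidAlgebra.of _ _ m)) =
      MonoidAlgebra.lift (ULift.{u} ℤ) C' (Multiplicative M) ((h : C →* C').comp χ) (MonoidAlgebra.of _ _ m)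
    rw [MonoidAlgebra.lift_of, MonoidAlgebra.lift_of]
    rfl

/-- Functoriality of `amsPoint` in the monoid. -/
theorem amsPoint_map {N : Type} [AddCommMonoid N] (p : Spec (CommRingCat.of C) ⟶ S) (f : N →+ M)
    (χ : Multiplicative M →* C) :
    amsPoint M p χ ≫ AMonS.map S f = amsPoint N p (χ.comp (AddMonoidHom.toMultiplicative f)) := by
  apply hom_ext_fst
  rw [Over.comp_left, Category.assoc]
  erw [show (AMonS.map S f).left ≫ Limits.pullback.fst _ _ = Limits.pullback.fst _ _ ≫ (AMon.map (ULift.{u} ℤ) f).left from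
    Limits.pullback.lift_fst _ _ _]
  rw [reassoc_of% amsPoint_fst, amsPoint_fst, AMon.map_left]
  erw [← Spec.map_comp]
  congr 1
  apply CommRingCat.hom_ext
  refine MonoidAlgebra.ringHom_ext (fun r => ?_) fun m => ?_
  · exact RingHom.congr_fun (uz_hom_ext (((MonoidAlgebra.lift (ULift.{u} ℤ) C (Multiplicative M) χ).toRingHom.comp
      (MonoidAlgebra.mapDomainBialgHom (ULift.{u} ℤ) (AddMonoidHom.toMultiplicative f)).toAlgHom.toRingHom).comp
        (MonoidAlgebra.singleOneRingHom (R := ULift.{u} ℤ) (M := Multiplicative N)))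
      ((MonoidAlgebra.lift (ULift.{u} ℤ) C (Multiplicative N)
        (χ.comp (AddMonoidHom.toMultiplicative f))).toRingHom.comp
        (MonoidAlgebra.singleOneRingHom (R := ULift.{u} ℤ) (M := Multiplicative N)))) r
  · simp

/-- Two morphisms of schemes into `A(M)_S ×_S T` agree as soon as their projections to `T` and to
`A(M)_ℤ` agree. -/
theorem hom_ext_left {T : Over S} {W : Scheme.{u}} (u v : W ⟶ (AMonS S M ⊗ T).left)
    (h₁ : u ≫ (snd (AMonS S M) T).left = v ≫ (snd (AMonS S M) T).left)
    (h₂ : u ≫ (fst (AMonS S M) T).left ≫ Limits.pullback.fst _ _ =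
      v ≫ (fst (AMonS S M) T).left ≫ Limits.pullback.fst _ _) : u = v := by
  refine Limits.pullback.hom_ext ?_ h₁
  refine Limits.pullback.hom_ext ?_ ?_
  · exact (Category.assoc _ _ _).trans (h₂.trans (Category.assoc _ _ _).symm)
  · have e1 : (fst (AMonS S M) T).left ≫ Limits.pullback.snd _ _ = (snd (AMonS S M) T).left ≫ T.hom :=
      Limits.pullback.condition
    exact ((Category.assoc _ _ _).trans ((congrArg (u ≫ ·) e1).trans ((Category.assoc _ _ _).symm.trans
      (congrArg (· ≫ T.hom) h₁)))).trans ((Category.assoc _ _ _).trans ((congrArg (v ≫ ·) e1.symm).trans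
        (Category.assoc _ _ _).symm))

end GrothLib.MagnetPts
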